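/-
A computable field with sixteen elements.
-/
import Mathlib

set_option autoImplicit false

namespace CfsgLib.U34

/-- The field with sixteen elements; bit `i` of the code is the coefficient of `X ^ i` modulo `X ^ 4 + X + 1`. -/
structure C where
  code : Fin 16
deriving DecidableEq

namespace C

/-- The code `n` modulo 16. -/
def mk' (n : ℕ) : C := ⟨⟨n % 16, Nat.mod_lt _ (by decide)⟩⟩

instance : Fintype C :=
  Fintype.ofEquiv (Fin 16) ⟨C.mk, C.code, fun _ => rfl, fun _ => rfl⟩

/-- The multiplication table, four bits for each pair. -/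
def mulTab : ℕ := 0xa5783ce1b4692df05ba48679c23d1fe07ae36bf258c149d0843fd16a2e957bc0386d92c74f1ae5b0c6b1285f394ed7a0e7f6c5d4a3b28190192a7f4cd5e6b380bc5243ad618f9e70428ef93517dbac6063c914be8d27fa509d15ae26fb73c8402147ed8b9afc5630df9b5713eca86420fedcba98765432100000000000000000

/-- The inversion table. -/
def invTab : ℕ := 0x834a5c2f67bde910

instance : Zero C := ⟨mk' 0⟩
instance : One C := ⟨mk' 1⟩
instance : Add C := ⟨fun a b => mk' (a.code.val ^^^ b.code.val)⟩
instance : Mul C := ⟨fun a b => mk' (mulTab >>> (4 * (16 * a.code.val + b.code.val)))⟩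
instance : Neg C := ⟨fun a => a⟩
instance : Inv C := ⟨fun a => mk' (invTab >>> (4 * a.code.val))⟩
instance : NatCast C := ⟨fun n => if n % 2 = 0 then 0 else 1⟩
instance : IntCast C := ⟨fun n => if n % 2 = 0 then 0 else 1⟩

set_option maxRecDepth 100000

instance : CommRing C where
  add_assoc := by decide +kernel
  zero_add := by decide +kernel
  add_zero := by decide +kernel
  nsmul := nsmulRec
  zsmul := zsmulRec
  neg_add_cancel := by decide +kernel
  add_comm := by decide +kernel
  mul_assoc := by decide +kernel
  one_mul := by decide +kernel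
  mul_one := by decide +kernel
  left_distrib := by decide +kernel
  right_distrib := by decide +kernel
  zero_mul := by decide +kernel
  mul_zero := by decide +kernel
  mul_comm := by decide +kernel
  natCast_zero := rfl
  natCast_succ := fun n => by
    show (if (n + 1) % 2 = 0 then (0 : C) else 1) = (if n % 2 = 0 then (0 : C) else 1) + 1
    by_cases h : n % 2 = 0
    · rw [if_pos h, if_neg (by omega)]; rfl
    · rw [if_neg h, if_pos (by omega)]; rfl
  intCast_ofNat := fun n => by
    show (if (n : ℤ) % 2 = 0 then (0 : C) else 1) = if n % 2 = 0 then (0 : C) else 1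
    by_cases h : n % 2 = 0
    · rw [if_pos h, if_pos (by omega)]
    · rw [if_neg h, if_neg (by omega)]
  intCast_negSucc := fun n => by
    show (if (Int.negSucc n) % 2 = 0 then (0 : C) else 1) = if (n + 1) % 2 = 0 then (0 : C) else 1
    by_cases h : (n + 1) % 2 = 0
    · rw [if_pos h, if_pos (by omega)]
    · rw [if_neg h, if_neg (by omega)]

instance : Field C where
  exists_pair_ne := ⟨0, 1, by decide +kernel⟩
  mul_inv_cancel := by decide +kernel
  inv_zero := by decide +kernel
  nnqsmul := _
  qsmul := _

theorem card_eq : Fintype.card C = 16 := by decide +kernel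

end C

/-- Every field with sixteen elements is this one. -/
theorem exists_ringEquiv (F : Type*) [Field F] [Fintype F] (hF : Fintype.card F = 16) :
    Nonempty (C ≃+* F) :=
  ⟨FiniteField.ringEquivOfCardEq (C.card_eq.trans hF.symm)⟩

end CfsgLib.U34
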