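/-
Matrices over `ZMod 5` as lists of packed rows, for kernel evaluation. A row is the natural number with
the twelve entries as digits in base 256, so that one row of a product is an integer combination of rows,
without any carry between the digits.
-/
import Cfsg.Agent.Lib.U34.Field

set_option autoImplicit false

namespace CfsgLib.U34

open Matrix

/-- The combination of rows whose coefficients are the digits of `a`. -/
def comb : ℕ → List ℕ → ℕ
  | _, [] => 0
  | a, b :: bs => a % 256 * b + comb (a / 256) bs

/-- Reduce each of the first `n` digits modulo 5. -/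
def red : ℕ → ℕ → ℕ
  | 0, _ => 0
  | n + 1, T => T % 256 % 5 + 256 * red n (T / 256)

/-- Digit `j`. -/
def dig (a j : ℕ) : ℕ := a / 256 ^ j % 256

/-- Whether a number is a row with twelve entries below 5. -/
def okRow : ℕ → ℕ → Bool
  | 0, a => a == 0
  | n + 1, a => Nat.blt (a % 256) 5 && okRow n (a / 256)

/-- Whether a list is a matrix. -/
def okMat (l : List ℕ) : Bool := l.length == 12 && l.all fun r => okRow 12 r

/-- The product of two matrices. -/
def mul5 (A B : List ℕ) : List ℕ := A.map fun a => red 12 (comb a B)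

theorem dig_zero (a : ℕ) : dig a 0 = a % 256 := by simp [dig]

theorem dig_succ (a j : ℕ) : dig a (j + 1) = dig (a / 256) j := by
  rw [dig, dig, Nat.div_div_eq_div_mul, pow_succ']

theorem comb_eq (a : ℕ) (B : List ℕ) : comb a B = ∑ k : Fin B.length, dig a k.val * B[k] := by
  induction B generalizing a with
  | nil => simp [comb]
  | cons b bs ih =>
    rw [comb, ih]
    show _ = ∑ k : Fin (bs.length + 1), dig a k.val * (b :: bs)[k]
    rw [Fin.sum_univ_succ]
    simp [dig_zero, dig_succ]

theorem dig_sum (n : ℕ) (c : Fin n → ℕ) (hc : ∀ j, c j < 256) (j : Fin n) :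
    dig (∑ i : Fin n, c i * 256 ^ i.val) j.val = c j := by
  induction n with
  | zero => exact j.elim0
  | succ n ih =>
    have hsum : ∑ i : Fin (n + 1), c i * 256 ^ i.val =
        c 0 + 256 * ∑ i : Fin n, c i.succ * 256 ^ i.val := by
      rw [Fin.sum_univ_succ, Finset.mul_sum]
      simp only [Fin.val_zero, pow_zero, mul_one, Fin.val_succ]
      congr 1
      exact Finset.sum_congr rfl fun i _ => by ring
    rw [hsum]
    refine Fin.cases ?_ (fun i => ?_) j
    · rw [Fin.val_zero, dig_zero, Nat.add_mul_mod_self_left, Nat.mod_eq_of_lt (hc 0)]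
    · rw [Fin.val_succ, dig_succ, Nat.add_mul_div_left _ _ (by norm_num),
        Nat.div_eq_of_lt (hc 0), zero_add]
      exact ih (fun k => c k.succ) (fun k => hc _) i

theorem okRow_spec : ∀ (n a : ℕ), okRow n a = true →
    a = ∑ j : Fin n, dig a j.val * 256 ^ j.val ∧ ∀ j : Fin n, dig a j.val < 5 := by
  intro n
  induction n with
  | zero => intro a h; simp [okRow] at h; exact ⟨by simp [h], fun j => j.elim0⟩
  | succ n ih =>
    intro a h
    simp only [okRow, Bool.and_eq_true, Nat.blt_eq] at h
    obtain ⟨h1, h2⟩ := h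
    obtain ⟨he, hl⟩ := ih _ h2
    constructor
    · rw [Fin.sum_univ_succ]
      simp only [Fin.val_zero, pow_zero, mul_one, Fin.val_succ, dig_zero, dig_succ, pow_succ', ← mul_assoc,
        mul_comm (dig _ _) 256]
      simp only [mul_assoc, ← Finset.mul_sum, ← he]
      omega
    · intro j
      refine Fin.cases ?_ (fun i => ?_) j
      · rw [Fin.val_zero, dig_zero]; exact h1
      · rw [Fin.val_succ, dig_succ]; exact hl i

theorem dig_red : ∀ (n T : ℕ) (j : Fin n), dig (red n T) j.val = dig T j.val % 5 := by
  intro n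
  induction n with
  | zero => exact fun _ j => j.elim0
  | succ n ih =>
    intro T j
    have h : T % 256 % 5 < 256 := by omega
    refine Fin.cases ?_ (fun i => ?_) j
    · rw [Fin.val_zero, red, dig_zero, dig_zero, Nat.add_mul_mod_self_left, Nat.mod_eq_of_lt h]
    · rw [Fin.val_succ, red, dig_succ, dig_succ, Nat.add_mul_div_left _ _ (by norm_num),
        Nat.div_eq_of_lt h, zero_add, ih]

/-- The matrix of packed rows. -/
def dec12 (l : List ℕ) : Matrix (Fin 12) (Fin 12) (ZMod 5) :=
  Matrix.of fun i j => (dig (l.getD i.val 0) j.val : ZMod 5)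

theorem dec12_mul {A B : List ℕ} (hA : okMat A = true) (hB : okMat B = true) :
    dec12 (mul5 A B) = dec12 A * dec12 B := by
  simp only [okMat, Bool.and_eq_true, beq_iff_eq, List.all_eq_true] at hA hB
  obtain ⟨hAl, hAr⟩ := hA
  obtain ⟨hBl, hBr⟩ := hB
  ext i j
  have hi : i.val < A.length := by omega
  set a := A[i.val] with ha
  have hget : (mul5 A B).getD i.val 0 = red 12 (comb a B) := by
    simp [mul5, List.getD_eq_getElem?_getD, List.getElem?_eq_getElem hi, ← ha]
  have hgA : A.getD i.val 0 = a := by
    simp [List.getD_eq_getElem?_getD, List.getElem?_eq_getElem hi, ← ha]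
  obtain ⟨-, hal⟩ := okRow_spec 12 a (hAr a (List.getElem_mem hi))
  let b : Fin 12 → ℕ := fun k => B.getD k.val 0
  have hb : ∀ k, okRow 12 (b k) = true := fun k => by
    have hk : k.val < B.length := by omega
    simp only [b, List.getD_eq_getElem?_getD, List.getElem?_eq_getElem hk, Option.getD_some]
    exact hBr _ (List.getElem_mem hk)
  have hcomb : comb a B = ∑ k : Fin 12, dig a k.val * b k := by
    rw [comb_eq]
    refine Fintype.sum_equiv (finCongr hBl) _ _ fun k => ?_
    simp [b, List.getD_eq_getElem?_getD, List.getElem?_eq_getElem k.isLt]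
  have hsum : comb a B = ∑ l : Fin 12, (∑ k : Fin 12, dig a k.val * dig (b k) l.val) * 256 ^ l.val := by
    rw [hcomb]
    conv_lhs => enter [2, k]; rw [(okRow_spec 12 (b k) (hb k)).1, Finset.mul_sum]
    rw [Finset.sum_comm]
    exact Finset.sum_congr rfl fun l _ => by
      rw [Finset.sum_mul]
      exact Finset.sum_congr rfl fun k _ => by ring
  have hlt : ∀ l : Fin 12, ∑ k : Fin 12, dig a k.val * dig (b k) l.val < 256 := by
    intro l
    calc ∑ k : Fin 12, dig a k.val * dig (b k) l.val ≤ ∑ _k : Fin 12, 4 * 4 :=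
          Finset.sum_le_sum fun k _ => Nat.mul_le_mul (Nat.le_of_lt_succ (hal k))
            (Nat.le_of_lt_succ ((okRow_spec 12 (b k) (hb k)).2 l))
      _ < 256 := by simp
  simp only [dec12, Matrix.of_apply, Matrix.mul_apply, hget, hgA, dig_red, hsum, dig_sum 12 _ hlt j,
    ZMod.natCast_mod]
  push_cast
  rfl

/-- A matrix over the field with 16 elements from its packed entries. -/
def dec3 (n : ℕ) : Matrix (Fin 3) (Fin 3) C :=
  Matrix.of fun i j => C.mk' (n >>> (4 * (3 * i.val + j.val)))

/-- Pairs of a twelve-dimensional and a three-dimensional matrix. -/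
abbrev M : Type := Matrix (Fin 12) (Fin 12) (ZMod 5) × Matrix (Fin 3) (Fin 3) C

/-- The pair given by an entry of a table. -/
def decPair (e : List ℕ × ℕ) : M := (dec12 e.1, dec3 e.2)

/-- Whether the product of the first two entries is that of the last two. -/
def isProd2 (a b c d : List ℕ × ℕ) : Bool :=
  okMat a.1 && okMat b.1 && okMat c.1 && okMat d.1 && (mul5 a.1 b.1 == mul5 c.1 d.1) &&
    decide (dec3 a.2 * dec3 b.2 = dec3 c.2 * dec3 d.2)

/-- Whether the third entry is the product of the first two. -/
def isProd (a b c : List ℕ × ℕ) : Bool :=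
  okMat a.1 && okMat b.1 && (mul5 a.1 b.1 == c.1) && decide (dec3 a.2 * dec3 b.2 = dec3 c.2)

theorem decPair_mul {a b c : List ℕ × ℕ} (h : isProd a b c = true) :
    decPair a * decPair b = decPair c := by
  simp only [isProd, Bool.and_eq_true, beq_iff_eq, decide_eq_true_eq] at h
  obtain ⟨⟨⟨ha, hb⟩, h12⟩, h3⟩ := h
  exact Prod.ext (by show dec12 _ * dec12 _ = dec12 _; rw [← dec12_mul ha hb, h12]) h3

theorem decPair_mul2 {a b c d : List ℕ × ℕ} (h : isProd2 a b c d = true) :
    decPair a * decPair b = decPair c * decPair d := by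
  simp only [isProd2, Bool.and_eq_true, beq_iff_eq, decide_eq_true_eq] at h
  obtain ⟨⟨⟨⟨⟨ha, hb⟩, hc⟩, hd⟩, h12⟩, h3⟩ := h
  exact Prod.ext (by show dec12 _ * dec12 _ = dec12 _ * dec12 _
                     rw [← dec12_mul ha hb, ← dec12_mul hc hd, h12]) h3

end CfsgLib.U34
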