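/-
Certificate for the twelve-dimensional representation of U3(4) in characteristic 5: kernel checks.
-/
import Cfsg.Agent.Lib.U34.Data
import Cfsg.Agent.Lib.U34.ListMat

set_option autoImplicit false

namespace CfsgLib.U34

open Matrix

set_option Elab.async false

/-- Entry `k` of a table. -/
def ent (l : List (List ℕ × ℕ)) (k : ℕ) : List ℕ × ℕ := l.getD k ([], 0)

/-- Generators. -/
def gen (k : ℕ) : M := decPair (ent genData k)
/-- The transversal. -/
def tm (p : ℕ) : M := decPair (ent tData p)
/-- The Sylow 2-subgroup. -/
def um (u : ℕ) : M := decPair (ent uData u)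
/-- Powers of the element of order 15. -/
def hm (j : ℕ) : M := decPair (ent hData j)

set_option maxRecDepth 100000
set_option maxHeartbeats 4000000

/-- The pair of identity matrices. -/
def onePair : List ℕ × ℕ := ((List.range 12).map (256 ^ ·), 0x100010001)

theorem decPair_one : decPair onePair = 1 := by
  decide +kernel

theorem first_ok : (ent tData 0 == onePair && ent uData 0 == onePair && ent hData 0 == onePair &&
    ent pow13Data 0 == onePair && ent pow13Data 13 == onePair &&
    ent pow10Data 0 == onePair && ent pow10Data 10 == onePair &&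
    isProd (ent genData 1) (ent hData 14) onePair) = true := by
  decide +kernel

theorem hm_succ_ok : ((List.range 14).all fun j =>
    isProd (ent genData 1) (ent hData j) (ent hData (j + 1))) = true := by
  decide +kernel

theorem hu_ok : ((List.range 64).all fun u =>
    let u' := huData.getD u 0
    Nat.blt u' 64 && isProd2 (ent genData 1) (ent uData u) (ent uData u') (ent genData 1)) = true := by
  decide +kernel

/-- One row of the multiplication table. -/
def umulCheck (k : ℕ) : Bool := (List.range 64).all fun u =>
    let u' := (umulData.getD k []).getD u 0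
    Nat.blt u' 64 && isProd (ent genData (2 + k)) (ent uData u) (ent uData u')

theorem umulCheck0 : umulCheck 0 = true := by
  decide +kernel

theorem umulCheck1 : umulCheck 1 = true := by
  decide +kernel

theorem umulCheck2 : umulCheck 2 = true := by
  decide +kernel

theorem umulCheck3 : umulCheck 3 = true := by
  decide +kernel

theorem umul_ok : ∀ k < 4, umulCheck k = true := by
  intro k hk
  interval_cases k
  · exact umulCheck0
  · exact umulCheck1
  · exact umulCheck2
  · exact umulCheck3

theorem uParent_ok : ((List.range 64).all fun u =>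
    let e := uParent.getD u (0, 0)
    u == 0 || (Nat.blt e.1 4 && Nat.blt e.2 u &&
      isProd (ent genData (2 + e.1)) (ent uData e.2) (ent uData u))) = true := by
  decide +kernel

theorem tParent_ok : ((List.range 65).all fun p =>
    let e := tParent.getD p (0, 0)
    p == 0 || (Nat.blt e.1 6 && Nat.blt e.2 p &&
      isProd (ent genData e.1) (ent tData e.2) (ent tData p))) = true := by
  decide +kernel

theorem eh_ok : ((List.range ehKeys.length).all fun e =>
    let t := ehKeys.getD e (0, 0)
    Nat.blt t.1 64 && Nat.blt t.2 15 && isProd (ent uData t.1) (ent hData t.2) (ent ehData e)) = true := by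
  decide +kernel

/-- One column of the transversal table. -/
def stepCheck (k : ℕ) : Bool := (List.range 65).all fun p =>
    let t := (stepData.getD k []).getD p (0, 0)
    Nat.blt t.1 65 && Nat.blt t.2 ehKeys.length &&
    isProd2 (ent genData k) (ent tData p) (ent tData t.1) (ent ehData t.2)

theorem stepCheck0 : stepCheck 0 = true := by
  decide +kernel

theorem stepCheck1 : stepCheck 1 = true := by
  decide +kernel

theorem stepCheck2 : stepCheck 2 = true := by
  decide +kernel

theorem stepCheck3 : stepCheck 3 = true := by
  decide +kernel

theorem stepCheck4 : stepCheck 4 = true := by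
  decide +kernel

theorem stepCheck5 : stepCheck 5 = true := by
  decide +kernel

theorem step_ok : ∀ k < 6, stepCheck k = true := by
  intro k hk
  interval_cases k
  · exact stepCheck0
  · exact stepCheck1
  · exact stepCheck2
  · exact stepCheck3
  · exact stepCheck4
  · exact stepCheck5

theorem pow13_ok : ((List.range 13).all fun i =>
    isProd (ent genData 0) (ent pow13Data i) (ent pow13Data (i + 1))) = true := by
  decide +kernel

theorem tenElt_ok : (Nat.blt tenData.1 65 && Nat.blt tenData.2.1 64 && Nat.blt tenData.2.2 15 &&
    isProd (ent uData tenData.2.1) (ent hData tenData.2.2) tenStab &&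
    isProd (ent tData tenData.1) tenStab (ent pow10Data 1) &&
    (List.range 10).all fun i => isProd (ent pow10Data 1) (ent pow10Data i) (ent pow10Data (i + 1))) = true := by
  decide +kernel

theorem gen_unitary : ∀ k : Fin 6,
    ((gen k.val).2)ᵀ * ((gen k.val).2.map fun a => a * a * a * a) = 1 ∧
    (let A := (gen k.val).2
     A 0 0 * A 1 1 * A 2 2 - A 0 0 * A 1 2 * A 2 1 - A 0 1 * A 1 0 * A 2 2
       + A 0 1 * A 1 2 * A 2 0 + A 0 2 * A 1 0 * A 2 1 - A 0 2 * A 1 1 * A 2 0) = 1 := by
  decide +kernel

theorem um_snd_injective : ∀ u v : Fin 64, (um u.val).2 = (um v.val).2 → u = v := by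
  decide +kernel

theorem ne_one_ok : (gen 0).2 ≠ 1 ∧ (hm 5).2 ≠ 1 ∧ (hm 3).2 ≠ 1 ∧
    dec3 (ent pow10Data 5).2 ≠ 1 ∧ dec3 (ent pow10Data 2).2 ≠ 1 := by
  decide +kernel

theorem fpf_ok : dec12 fpfInv * ((gen 0).1 - 1) = 1 := by
  decide +kernel

end CfsgLib.U34
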