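/-
The certified group: normal form of its elements.
-/
import Cfsg.Agent.Lib.U34.Checks

set_option autoImplicit false

namespace CfsgLib.U34

/-- The stabilizer part. -/
def InE (x : M) : Prop := ∃ u < 64, ∃ j < 15, x = um u * hm j

/-- The whole set of normal forms. -/
def InOmega (x : M) : Prop := ∃ p < 65, ∃ e, InE e ∧ x = tm p * e

/-- The monoid generated by the generators. -/
def S : Submonoid M := Submonoid.closure (Set.range fun k : Fin 6 => gen k.val)

theorem gen_mem (k : ℕ) (hk : k < 6) : gen k ∈ S := Submonoid.subset_closure ⟨⟨k, hk⟩, rfl⟩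

theorem firsts : tm 0 = 1 ∧ um 0 = 1 ∧ hm 0 = 1 ∧ decPair (ent pow13Data 0) = 1 ∧
    decPair (ent pow13Data 13) = 1 ∧ decPair (ent pow10Data 0) = 1 ∧ decPair (ent pow10Data 10) = 1 ∧
    gen 1 * hm 14 = 1 := by
  have h := first_ok
  simp only [Bool.and_eq_true, beq_iff_eq] at h
  obtain ⟨⟨⟨⟨⟨⟨⟨h1, h2⟩, h3⟩, h4⟩, h5⟩, h6⟩, h7⟩, h8⟩ := h
  refine ⟨?_, ?_, ?_, ?_, ?_, ?_, ?_, (decPair_mul h8).trans decPair_one⟩
  all_goals (show decPair _ = 1; simp only [h1, h2, h3, h4, h5, h6, h7, decPair_one])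

theorem hm_succ (j : ℕ) (hj : j < 14) : hm (j + 1) = gen 1 * hm j :=
  (decPair_mul (List.all_eq_true.1 hm_succ_ok j (List.mem_range.2 hj))).symm

theorem hm_eq_pow : ∀ j < 15, hm j = gen 1 ^ j := by
  intro j
  induction j with
  | zero => intro _; rw [firsts.2.2.1, pow_zero]
  | succ j ih => intro hj; rw [hm_succ j (by omega), ih (by omega), pow_succ']

theorem gen_one_pow : gen 1 ^ 15 = 1 := by
  rw [pow_succ', ← hm_eq_pow 14 (by norm_num)]
  exact firsts.2.2.2.2.2.2.2

theorem gen_one_smul_E {e : M} (he : InE e) : InE (gen 1 * e) := by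
  obtain ⟨u, hu, j, hj, rfl⟩ := he
  have h := List.all_eq_true.1 hu_ok u (List.mem_range.2 hu)
  simp only [Bool.and_eq_true, Nat.blt_eq] at h
  obtain ⟨h1, h2⟩ := h
  refine ⟨_, h1, (j + 1) % 15, Nat.mod_lt _ (by norm_num), ?_⟩
  rw [← mul_assoc, show gen 1 * um u = um (huData.getD u 0) * gen 1 from decPair_mul2 h2, mul_assoc]
  congr 1
  rw [hm_eq_pow j hj, hm_eq_pow _ (Nat.mod_lt _ (by norm_num)), ← pow_succ',
    ← Nat.mod_add_div (j + 1) 15, pow_add, pow_mul, gen_one_pow, one_pow, mul_one,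
    Nat.mod_add_div]

theorem gen_u_smul_E {k : ℕ} (hk : k < 4) {e : M} (he : InE e) : InE (gen (2 + k) * e) := by
  obtain ⟨u, hu, j, hj, rfl⟩ := he
  have h := List.all_eq_true.1 (umul_ok k hk) u (List.mem_range.2 hu)
  simp only [Bool.and_eq_true, Nat.blt_eq] at h
  obtain ⟨h1, h2⟩ := h
  exact ⟨_, h1, j, hj, by rw [← mul_assoc]; exact congrArg (· * hm j) (decPair_mul h2)⟩

theorem um_parent {u : ℕ} (hu : u < 64) (h0 : u ≠ 0) :
    ∃ k v, k < 4 ∧ v < u ∧ um u = gen (2 + k) * um v := by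
  have h := List.all_eq_true.1 uParent_ok u (List.mem_range.2 hu)
  simp only [Bool.or_eq_true, beq_iff_eq, h0, false_or, Bool.and_eq_true, Nat.blt_eq] at h
  obtain ⟨⟨h1, h2⟩, h3⟩ := h
  exact ⟨_, _, h1, h2, (decPair_mul h3).symm⟩

theorem um_smul_E : ∀ u < 64, ∀ e, InE e → InE (um u * e) := by
  intro u
  induction u using Nat.strong_induction_on with
  | _ u ih =>
    intro hu e he
    by_cases h0 : u = 0
    · rw [h0, firsts.2.1, one_mul]; exact he
    · obtain ⟨k, v, hk, hv, he'⟩ := um_parent hu h0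
      rw [he', mul_assoc]
      exact gen_u_smul_E hk (ih v hv (by omega) e he)

theorem hm_smul_E : ∀ j < 15, ∀ e, InE e → InE (hm j * e) := by
  intro j
  induction j with
  | zero => intro _ e he; rw [firsts.2.2.1, one_mul]; exact he
  | succ j ih =>
    intro hj e he
    rw [hm_succ j (by omega), mul_assoc]
    exact gen_one_smul_E (ih (by omega) e he)

theorem gen_smul_omega {k : ℕ} (hk : k < 6) {x : M} (hx : InOmega x) : InOmega (gen k * x) := by
  obtain ⟨p, hp, e, he, rfl⟩ := hx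
  have h := List.all_eq_true.1 (step_ok k hk) p (List.mem_range.2 hp)
  simp only [Bool.and_eq_true, Nat.blt_eq] at h
  obtain ⟨⟨h1, h2⟩, h3⟩ := h
  have h' := List.all_eq_true.1 eh_ok _ (List.mem_range.2 h2)
  simp only [Bool.and_eq_true, Nat.blt_eq] at h'
  obtain ⟨⟨h4, h5⟩, h6⟩ := h'
  refine ⟨_, h1, decPair (ent ehData ((stepData.getD k []).getD p (0, 0)).2) * e, ?_, ?_⟩
  · rw [← decPair_mul h6, mul_assoc]
    exact um_smul_E _ h4 _ (hm_smul_E _ h5 _ he)
  · rw [← mul_assoc, ← mul_assoc]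
    exact congrArg (· * e) (decPair_mul2 h3)

theorem one_mem_E : InE 1 :=
  ⟨0, by norm_num, 0, by norm_num, by rw [firsts.2.1, firsts.2.2.1, one_mul]⟩

theorem omega_of_mem {x : M} (hx : x ∈ S) : InOmega x := by
  suffices ∀ y, InOmega y → InOmega (x * y) by
    simpa using this 1 ⟨0, by norm_num, 1, one_mem_E, by rw [firsts.1, one_mul]⟩
  induction hx using Submonoid.closure_induction with
  | mem y hy => obtain ⟨k, rfl⟩ := hy; exact fun z hz => gen_smul_omega k.isLt hz
  | one => intro z hz; rwa [one_mul]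
  | mul a b _ _ ha hb => intro z hz; rw [mul_assoc]; exact ha _ (hb z hz)

theorem hm_mem : ∀ j < 15, hm j ∈ S := fun j hj => by
  rw [hm_eq_pow j hj]; exact S.pow_mem (gen_mem 1 (by norm_num)) j

theorem um_mem : ∀ u < 64, um u ∈ S := by
  intro u
  induction u using Nat.strong_induction_on with
  | _ u ih =>
    intro hu
    by_cases h0 : u = 0
    · rw [h0, firsts.2.1]; exact S.one_mem
    · obtain ⟨k, v, hk, hv, he⟩ := um_parent hu h0
      rw [he]
      exact S.mul_mem (gen_mem _ (by omega)) (ih v hv (by omega))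

theorem tm_mem : ∀ p < 65, tm p ∈ S := by
  intro p
  induction p using Nat.strong_induction_on with
  | _ p ih =>
    intro hp
    by_cases h0 : p = 0
    · rw [h0, firsts.1]; exact S.one_mem
    · have h := List.all_eq_true.1 tParent_ok p (List.mem_range.2 hp)
      simp only [Bool.or_eq_true, beq_iff_eq, h0, false_or, Bool.and_eq_true, Nat.blt_eq] at h
      obtain ⟨⟨h1, h2⟩, h3⟩ := h
      show decPair (ent tData p) ∈ S
      rw [← decPair_mul h3]
      exact S.mul_mem (gen_mem _ h1) (ih _ h2 (by omega))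

theorem finite_S : Finite S := by
  haveI : Finite M := inferInstance
  exact inferInstance

theorem card_S_le : Nat.card S ≤ 62400 := by
  haveI := finite_S
  let f : Fin 65 × Fin 64 × Fin 15 → S := fun t =>
    ⟨tm t.1.val * (um t.2.1.val * hm t.2.2.val),
      S.mul_mem (tm_mem _ t.1.isLt) (S.mul_mem (um_mem _ t.2.1.isLt) (hm_mem _ t.2.2.isLt))⟩
  have hf : Function.Surjective f := by
    rintro ⟨x, hx⟩
    obtain ⟨p, hp, e, ⟨u, hu, j, hj, rfl⟩, rfl⟩ := omega_of_mem hx
    exact ⟨(⟨p, hp⟩, ⟨u, hu⟩, ⟨j, hj⟩), rfl⟩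
  calc Nat.card S ≤ Nat.card (Fin 65 × Fin 64 × Fin 15) := Nat.card_le_card_of_surjective f hf
    _ = 62400 := by simp

theorem gen_zero_pow : gen 0 ^ 13 = 1 := by
  have h : ∀ i ≤ 13, decPair (ent pow13Data i) = gen 0 ^ i := by
    intro i
    induction i with
    | zero => intro _; rw [pow_zero]; exact firsts.2.2.2.1
    | succ i ih =>
      intro hi
      rw [pow_succ', ← ih (by omega)]
      exact (decPair_mul (List.all_eq_true.1 pow13_ok i (List.mem_range.2 (by omega)))).symm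
  rw [← h 13 le_rfl]
  exact firsts.2.2.2.2.1

/-- The element of order 10. -/
def ten : M := decPair (ent pow10Data 1)

theorem ten_facts : ten ∈ S ∧ ten ^ 10 = 1 ∧ (ten ^ 5).2 ≠ 1 ∧ (ten ^ 2).2 ≠ 1 := by
  have h0 := tenElt_ok
  simp only [Bool.and_eq_true, Nat.blt_eq] at h0
  obtain ⟨⟨⟨⟨⟨h1, h2⟩, h3⟩, h4⟩, h5⟩, h6⟩ := h0
  have hp : ∀ i ≤ 10, decPair (ent pow10Data i) = ten ^ i := by
    intro i
    induction i with
    | zero => intro _; rw [pow_zero]; exact firsts.2.2.2.2.2.1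
    | succ i ih =>
      intro hi
      rw [pow_succ', ← ih (by omega)]
      exact (decPair_mul (List.all_eq_true.1 h6 i (List.mem_range.2 (by omega)))).symm
  refine ⟨?_, ?_, ?_, ?_⟩
  · show decPair (ent pow10Data 1) ∈ S
    rw [← decPair_mul h5, ← decPair_mul h4]
    exact S.mul_mem (tm_mem _ h1) (S.mul_mem (um_mem _ h2) (hm_mem _ h3))
  · rw [← hp 10 le_rfl]; exact firsts.2.2.2.2.2.2.1
  · rw [← hp 5 (by norm_num)]; exact ne_one_ok.2.2.2.1
  · rw [← hp 2 (by norm_num)]; exact ne_one_ok.2.2.2.2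

end CfsgLib.U34
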