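/-
The certified group is `PSU₃(4)`: a twelve-dimensional representation in characteristic 5.
-/
import Cfsg.Agent.Lib.U34.Group
import Cfsg.Agent.S0280
import Cfsg.Agent.S0283
import Cfsg.Prelude.Def_Classical

set_option autoImplicit false

namespace CfsgLib.U34

open Matrix Cfsg

/-- The fourth power as a ring endomorphism. -/
def conjC : C →+* C where
  toFun a := a * a * a * a
  map_one' := by decide +kernel
  map_mul' := by decide +kernel
  map_zero' := by decide +kernel
  map_add' := by decide +kernel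

/-- Unitary of determinant one. -/
def Unit3 (A : Matrix (Fin 3) (Fin 3) C) : Prop := Aᵀ * A.map conjC = 1 ∧ A.det = 1

theorem unit3_mul {A B : Matrix (Fin 3) (Fin 3) C} (hA : Unit3 A) (hB : Unit3 B) : Unit3 (A * B) := by
  refine ⟨?_, by rw [Matrix.det_mul, hA.2, hB.2, mul_one]⟩
  rw [Matrix.transpose_mul, Matrix.map_mul]
  calc Bᵀ * Aᵀ * (A.map conjC * B.map conjC) = Bᵀ * (Aᵀ * A.map conjC) * B.map conjC := by
        simp only [mul_assoc]
    _ = 1 := by rw [hA.1, mul_one, hB.1]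

theorem unit3_of_mem {x : M} (hx : x ∈ S) : Unit3 x.2 := by
  induction hx using Submonoid.closure_induction with
  | mem y hy =>
    obtain ⟨k, rfl⟩ := hy
    obtain ⟨h1, h2⟩ := gen_unitary k
    refine ⟨h1, ?_⟩
    rw [Matrix.det_fin_three]
    exact h2
  | one => exact ⟨by rw [Prod.snd_one, Matrix.transpose_one, Matrix.map_one _ (map_zero _) (map_one _), one_mul],
      by rw [Prod.snd_one, Matrix.det_one]⟩
  | mul a b _ _ ha hb => exact unit3_mul ha hb

variable {F : Type*} [Field F] (φ : C ≃+* F)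

theorem conj_eq (x : F) : φ (conjC (φ.symm x)) = x ^ 4 := by
  show φ (φ.symm x * φ.symm x * φ.symm x * φ.symm x) = _
  simp only [map_mul, RingEquiv.apply_symm_apply]
  ring

theorem preserves_of_unit3 {A : Matrix (Fin 3) (Fin 3) C} (hA : Aᵀ * A.map conjC = 1) (u v : Fin 3 → F) :
    hermForm 3 F 4 (A.map φ *ᵥ u) (A.map φ *ᵥ v) = hermForm 3 F 4 u v := by
  let σ : F →+* F := (φ : C →+* F).comp (conjC.comp (φ.symm : F →+* C))
  have hσ : ∀ x : F, σ x = x ^ 4 := conj_eq φ
  have h1 : (A.map φ)ᵀ * (A.map φ).map σ = 1 := by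
    have : (A.map φ).map σ = (A.map conjC).map φ := by
      ext i j; simp [σ]
    rw [this]
    have h := congrArg (fun B : Matrix (Fin 3) (Fin 3) C => B.map (φ : C →+* F)) hA
    simp only [Matrix.map_mul, Matrix.transpose_map, Matrix.map_one _ (map_zero _) (map_one _)] at h
    exact h
  have hform : ∀ a b : Fin 3 → F, hermForm 3 F 4 a b = a ⬝ᵥ (σ ∘ b) := fun a b => by
    simp only [hermForm, dotProduct, Function.comp_apply, hσ]
  rw [hform, hform]
  have h2 : σ ∘ (A.map φ *ᵥ v) = (A.map φ).map σ *ᵥ (σ ∘ v) := by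
    funext i
    exact σ.map_mulVec _ v i
  rw [h2, Matrix.dotProduct_mulVec, ← Matrix.mulVec_transpose, Matrix.mulVec_mulVec]
  have h3 := congrArg Matrix.transpose h1
  rw [Matrix.transpose_mul, Matrix.transpose_transpose, Matrix.transpose_one] at h3
  rw [h3, Matrix.one_mulVec]

/-- An element with a unitary matrix over the model field gives an element of `SU`. -/
def mkSU (A : Matrix (Fin 3) (Fin 3) C) (hA : Unit3 A) : SU 3 F 4 :=
  ⟨⟨A.map φ, by rw [← RingEquiv.mapMatrix_apply, ← RingEquiv.map_det, hA.2, map_one]⟩,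
    fun u v => preserves_of_unit3 φ hA.1 u v⟩

theorem coe_mkSU (A : Matrix (Fin 3) (Fin 3) C) (hA : Unit3 A) :
    ((mkSU φ A hA).1 : Matrix (Fin 3) (Fin 3) F) = A.map φ := rfl

/-- The map to `SU`. -/
def toSU : S →* SU 3 F 4 where
  toFun x := mkSU φ x.1.2 (unit3_of_mem x.2)
  map_one' := Subtype.ext (Subtype.ext (by
    show ((1 : M)).2.map φ = _
    rw [Prod.snd_one, Matrix.map_one _ (map_zero φ) (map_one φ)]
    rfl))
  map_mul' x y := Subtype.ext (Subtype.ext (by
    show (x.1 * y.1).2.map φ = x.1.2.map φ * y.1.2.map φ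
    rw [Prod.snd_mul]
    exact Matrix.map_mul (f := (φ : C →+* F))))

theorem center_trivial (φ : C ≃+* F) : Subgroup.center (SU 3 F 4) = ⊥ := by
  rw [eq_bot_iff]
  intro z hz
  rw [Subgroup.mem_center_iff] at hz
  set c : C := C.mk' 8 with hc
  let D : Matrix (Fin 3) (Fin 3) C := Matrix.diagonal ![c, c * c, c * c]
  let P : Matrix (Fin 3) (Fin 3) C := !![0, 1, 0; 0, 0, 1; 1, 0, 0]
  have hD : Unit3 D := by
    constructor
    · ext i j
      fin_cases i <;> fin_cases j <;> simp [D, c] <;> decide +kernel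
    · rw [Matrix.det_diagonal, Fin.prod_univ_three]
      simp [c]
      decide +kernel
  have hP : Unit3 P := by
    constructor
    · ext i j
      fin_cases i <;> fin_cases j <;> simp [P, Matrix.mul_apply, Fin.sum_univ_three]
    · simp [P, Matrix.det_fin_three]
  set Z : Matrix (Fin 3) (Fin 3) F := ((z.1 : Matrix.SpecialLinearGroup (Fin 3) F) : Matrix (Fin 3) (Fin 3) F)
    with hZ
  have hcD : D.map φ * Z = Z * D.map φ :=
    congrArg (fun g : SU 3 F 4 => ((g.1 : Matrix.SpecialLinearGroup (Fin 3) F) : Matrix (Fin 3) (Fin 3) F))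
      (hz (mkSU φ D hD))
  have hcP : P.map φ * Z = Z * P.map φ :=
    congrArg (fun g : SU 3 F 4 => ((g.1 : Matrix.SpecialLinearGroup (Fin 3) F) : Matrix (Fin 3) (Fin 3) F))
      (hz (mkSU φ P hP))
  have hne : φ c ≠ φ (c * c) := by
    rw [ne_eq, φ.injective.eq_iff]; simp [c]; decide +kernel
  have hd := fun i j => congrFun (congrFun hcD i) j
  have hp := fun i j => congrFun (congrFun hcP i) j
  have e01 := hd 0 1
  have e02 := hd 0 2
  have e10 := hd 1 0
  have e20 := hd 2 0
  have p00 := hp 0 0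
  have p01 := hp 0 1
  have p02 := hp 0 2
  have p10 := hp 1 0
  have p11 := hp 1 1
  have p12 := hp 1 2
  simp [D, Matrix.mul_apply, Fin.sum_univ_three, Matrix.diagonal_apply, -map_mul] at e01 e02 e10 e20
  simp [P, Matrix.mul_apply, Fin.sum_univ_three] at p00 p01 p02 p10 p11 p12
  have z01 : Z 0 1 = 0 := by
    by_contra h
    exact hne (mul_left_cancel₀ h (by rw [mul_comm (Z 0 1) (φ c), e01]))
  have z02 : Z 0 2 = 0 := by
    by_contra h
    exact hne (mul_left_cancel₀ h (by rw [mul_comm (Z 0 2) (φ c), e02]))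
  have z10 : Z 1 0 = 0 := by
    by_contra h
    exact hne (mul_left_cancel₀ h (by rw [mul_comm (Z 1 0) (φ (c * c)), e10]))
  have hscal : Z = Z 0 0 • (1 : Matrix (Fin 3) (Fin 3) F) := by
    ext i j
    fin_cases i <;> fin_cases j <;>
      simp [p00, p01, p02, p10, p11, p12, z01, z02, z10] <;>
      first
        | (rw [← p00]; simp [*]) | simp_all
  have hdet : Z 0 0 ^ 3 = 1 := by
    have h := (z.1 : Matrix.SpecialLinearGroup (Fin 3) F).2
    rw [← hZ, hscal, Matrix.det_smul, Matrix.det_one, Fintype.card_fin, mul_one] at h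
    exact h
  have hform : Z 0 0 ^ 5 = 1 := by
    have h : hermForm 3 F 4 (Z *ᵥ ![1, 0, 0]) (Z *ᵥ ![1, 0, 0]) = hermForm 3 F 4 ![1, 0, 0] ![1, 0, 0] :=
      z.2 _ _
    rw [hscal] at h
    simp [hermForm, Fin.sum_univ_three, Matrix.smul_mulVec] at h
    rw [← h]; ring
  have h1 : Z 0 0 = 1 := by
    calc Z 0 0 = (Z 0 0 ^ 3) ^ 2 / Z 0 0 ^ 5 := by
          rw [hform, div_one]
          calc Z 0 0 = Z 0 0 ^ 5 * Z 0 0 := by rw [hform, one_mul]
            _ = (Z 0 0 ^ 3) ^ 2 := by ring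
      _ = 1 := by rw [hdet, hform]; norm_num
  rw [Subgroup.mem_bot]
  refine Subtype.ext (Subtype.ext ?_)
  show Z = 1
  rw [hscal, h1, one_smul]

/-- The map to `PSU`. -/
def toPSU : S →* PSU 3 F 4 := (QuotientGroup.mk' _).comp (toSU φ)

theorem toPSU_eq {x y : S} (h : toPSU φ x = toPSU φ y) : x.1.2 = y.1.2 := by
  have h' : toSU φ x = toSU φ y := by
    have := QuotientGroup.eq.1 h
    rw [center_trivial φ, Subgroup.mem_bot, inv_mul_eq_one] at this
    exact this
  have := congrArg (fun g : SU 3 F 4 => ((g.1 : Matrix.SpecialLinearGroup (Fin 3) F) : Matrix (Fin 3) (Fin 3) F)) h'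
  exact Matrix.map_injective φ.injective this

theorem orderOf_toPSU {x : S} {n : ℕ} (hn : 1 < n) (h : x.1 ^ n = 1)
    (hmin : ∀ q : ℕ, q.Prime → q ∣ n → (x.1 ^ (n / q)).2 ≠ 1) : orderOf (toPSU φ x) = n := by
  refine orderOf_eq_of_pow_and_pow_div_prime (by omega) ?_ fun q hq hqn he => ?_
  · rw [← map_pow, show x ^ n = 1 from Subtype.ext (by rw [SubmonoidClass.coe_pow, h, OneMemClass.coe_one]),
      map_one]
  · rw [← map_pow, ← map_one (toPSU φ)] at he
    have := toPSU_eq φ he
    rw [SubmonoidClass.coe_pow, OneMemClass.coe_one, Prod.snd_one] at this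
    exact hmin q hq hqn this

theorem card_PSU [Fintype F] (hF : Fintype.card F = 16) : Nat.card (PSU 3 F 4) = 62400 := by
  have h := Cfsg.Agent.S0280.result (F := F) (q := 4) hF 3 (by norm_num)
  norm_num [Finset.prod_range_succ, Nat.even_iff] at h
  omega

/-- The element of order 13. -/
def a13 : S := ⟨gen 0, gen_mem 0 (by norm_num)⟩

/-- The element of order 15. -/
def a15 : S := ⟨gen 1, gen_mem 1 (by norm_num)⟩

/-- The element of order 10. -/
def a10 : S := ⟨ten, ten_facts.1⟩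

theorem orders :
    orderOf (toPSU φ a13) = 13 ∧ orderOf (toPSU φ a15) = 15 ∧ orderOf (toPSU φ a10) = 10 := by
  refine ⟨orderOf_toPSU φ (by norm_num) gen_zero_pow fun q hq hd => ?_,
    orderOf_toPSU φ (by norm_num) gen_one_pow fun q hq hd => ?_,
    orderOf_toPSU φ (by norm_num) ten_facts.2.1 fun q hq hd => ?_⟩
  · rw [(Nat.prime_dvd_prime_iff_eq hq (by norm_num)).1 hd]
    simpa [a13] using ne_one_ok.1
  · rcases (Nat.Prime.dvd_mul hq).1 (show q ∣ 3 * 5 from hd) with h | h
    · rw [(Nat.prime_dvd_prime_iff_eq hq Nat.prime_three).1 h]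
      show ((gen 1) ^ (15 / 3)).2 ≠ 1
      rw [show 15 / 3 = 5 from rfl, ← hm_eq_pow 5 (by norm_num)]
      exact ne_one_ok.2.1
    · rw [(Nat.prime_dvd_prime_iff_eq hq Nat.prime_five).1 h]
      show ((gen 1) ^ (15 / 5)).2 ≠ 1
      rw [show 15 / 5 = 3 from rfl, ← hm_eq_pow 3 (by norm_num)]
      exact ne_one_ok.2.2.1
  · rcases (Nat.Prime.dvd_mul hq).1 (show q ∣ 2 * 5 from hd) with h | h
    · rw [(Nat.prime_dvd_prime_iff_eq hq Nat.prime_two).1 h]
      exact ten_facts.2.2.1
    · rw [(Nat.prime_dvd_prime_iff_eq hq Nat.prime_five).1 h]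
      exact ten_facts.2.2.2

theorem toPSU_bijective [Fintype F] (hF : Fintype.card F = 16) : Function.Bijective (toPSU φ) := by
  classical
  haveI := finite_S
  have hcard := card_PSU hF
  haveI : Finite (PSU 3 F 4) := Nat.finite_of_card_ne_zero (by rw [hcard]; norm_num)
  haveI : IsSimpleGroup (PSU 3 F 4) :=
    Cfsg.Agent.S0283.result (F := F) (q := 4) hF 3 le_rfl (by norm_num)
  have hinv : ∀ g : PSU 3 F 4, g ∈ (MonoidHom.mrange (toPSU φ)) → g⁻¹ ∈ (MonoidHom.mrange (toPSU φ)) := by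
    intro g hg
    rw [show g⁻¹ = g ^ (orderOf g - 1) by
      rw [inv_eq_iff_mul_eq_one, ← pow_succ', Nat.sub_add_cancel (orderOf_pos g), pow_orderOf_eq_one]]
    exact Submonoid.pow_mem _ hg _
  let R : Subgroup (PSU 3 F 4) := { (MonoidHom.mrange (toPSU φ)) with inv_mem' := fun {g} => hinv g }
  have hR : ∀ x, toPSU φ x ∈ R := fun x => ⟨x, rfl⟩
  -- the Sylow 2-subgroup
  let U : Set (PSU 3 F 4) := Set.range fun u : Fin 64 => toPSU φ ⟨um u.val, um_mem _ u.isLt⟩
  have hUmul : ∀ g ∈ U, ∀ g' ∈ U, g * g' ∈ U := by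
    rintro _ ⟨u, rfl⟩ _ ⟨v, rfl⟩
    suffices h : ∀ a < 64, ∀ b < 64, ∃ c < 64, um a * um b = um c by
      obtain ⟨c, hc, he⟩ := h u.val u.isLt v.val v.isLt
      exact ⟨⟨c, hc⟩, by simp only [← map_mul]; exact congrArg _ (Subtype.ext he.symm)⟩
    intro a
    induction a using Nat.strong_induction_on with
    | _ a ih =>
      intro ha b hb
      by_cases h0 : a = 0
      · exact ⟨b, hb, by rw [h0, firsts.2.1, one_mul]⟩
      · obtain ⟨k, w, hk, hw, he⟩ := um_parent ha h0
        obtain ⟨c, hc, hc'⟩ := ih w hw (by omega) b hb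
        have h := List.all_eq_true.1 (umul_ok k hk) c (List.mem_range.2 hc)
        simp only [Bool.and_eq_true, Nat.blt_eq] at h
        exact ⟨_, h.1, by rw [he, mul_assoc, hc']; exact decPair_mul h.2⟩
  have hU1 : (1 : PSU 3 F 4) ∈ U := by
    refine ⟨⟨0, by norm_num⟩, ?_⟩
    show toPSU φ ⟨um 0, _⟩ = 1
    rw [show (⟨um 0, um_mem 0 (by norm_num)⟩ : S) = 1 from Subtype.ext firsts.2.1, map_one]
  let Us : Submonoid (PSU 3 F 4) := ⟨⟨U, fun {a b} ha hb => hUmul a ha b hb⟩, hU1⟩
  have hUinv : ∀ g : PSU 3 F 4, g ∈ Us → g⁻¹ ∈ Us := by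
    intro g hg
    rw [show g⁻¹ = g ^ (orderOf g - 1) by
      rw [inv_eq_iff_mul_eq_one, ← pow_succ', Nat.sub_add_cancel (orderOf_pos g), pow_orderOf_eq_one]]
    exact Submonoid.pow_mem _ hg _
  let UG : Subgroup (PSU 3 F 4) := { Us with inv_mem' := fun {g} => hUinv g }
  have hUcard : Nat.card UG = 64 := by
    show Nat.card U = 64
    rw [Nat.card_range_of_injective, Nat.card_eq_fintype_card, Fintype.card_fin]
    intro u v huv
    exact um_snd_injective u v (toPSU_eq φ huv)
  have h64 : 64 ∣ Nat.card R := hUcard ▸ Subgroup.card_dvd_of_le (fun g hg => by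
    obtain ⟨u, rfl⟩ := hg; exact hR _)
  obtain ⟨h13, h15, -⟩ := orders φ
  have hd : ∀ x, orderOf (toPSU φ x) ∣ Nat.card R := fun x => by
    rw [← Subgroup.orderOf_mk (toPSU φ x) (hR x)]
    exact orderOf_dvd_natCard _
  have hdiv : 12480 ∣ Nat.card R := by
    have := Nat.Coprime.mul_dvd_of_dvd_of_dvd (by norm_num)
      (Nat.Coprime.mul_dvd_of_dvd_of_dvd (by norm_num) h64 (h13 ▸ hd a13)) (h15 ▸ hd a15)
    exact this
  have hidx : R.index ≤ 5 := by
    have h := R.card_mul_index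
    obtain ⟨c, hc⟩ := hdiv
    rw [hcard, hc] at h
    have hc0 : c ≠ 0 := by rintro rfl; simp at h
    have : c * R.index = 5 := by nlinarith
    calc R.index ≤ c * R.index := Nat.le_mul_of_pos_left _ (by omega)
      _ = 5 := this
  have htop : R = ⊤ := by
    by_contra hne
    have hcore : R.normalCore = ⊥ := by
      rcases R.normalCore_normal.eq_bot_or_eq_top with h | h
      · exact h
      · exact absurd (top_le_iff.1 (h ▸ R.normalCore_le)) hne
    have hinj : Function.Injective (MulAction.toPermHom (PSU 3 F 4) (PSU 3 F 4 ⧸ R)) := by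
      rw [← MonoidHom.ker_eq_bot_iff, ← Subgroup.normalCore_eq_ker, hcore]
    have hle := Nat.card_le_card_of_injective _ hinj
    rw [Nat.card_perm, hcard, show Nat.card (PSU 3 F 4 ⧸ R) = R.index from rfl] at hle
    have := Nat.factorial_le hidx
    norm_num [Nat.factorial] at this
    omega
  have hsurj : Function.Surjective (toPSU φ) := fun g => by
    obtain ⟨x, hx⟩ := (show g ∈ R from htop ▸ Subgroup.mem_top g)
    exact ⟨x, hx⟩
  exact hsurj.bijective_of_nat_card_le (by rw [hcard]; exact card_S_le)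

end CfsgLib.U34
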