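/-
Groups of unbounded order with the prime graph of PSU(3,4).
-/
import Cfsg.Agent.Lib.U34.Rep
import Cfsg.Agent.Lib.FpfExt.Basic

set_option autoImplicit false

namespace CfsgLib.U34

open Matrix

universe u

variable {G : Type u} [Group G]

/-- A matrix representation acting on `k` copies of its module. -/
def act (ρ : G →* Matrix (Fin 12) (Fin 12) (ZMod 5)) (k : ℕ) :
    G →* MulAut (Multiplicative (Fin k → Fin 12 → ZMod 5)) where
  toFun g := AddEquiv.toMultiplicative
    { toFun := fun v i => ρ g *ᵥ v i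
      invFun := fun v i => ρ g⁻¹ *ᵥ v i
      left_inv := fun v => by
        funext i
        show ρ g⁻¹ *ᵥ (ρ g *ᵥ v i) = v i
        rw [Matrix.mulVec_mulVec, ← map_mul, inv_mul_cancel, map_one, Matrix.one_mulVec]
      right_inv := fun v => by
        funext i
        show ρ g *ᵥ (ρ g⁻¹ *ᵥ v i) = v i
        rw [Matrix.mulVec_mulVec, ← map_mul, mul_inv_cancel, map_one, Matrix.one_mulVec]
      map_add' := fun v w => by
        funext i
        exact Matrix.mulVec_add _ _ _ }
  map_one' := by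
    apply MulEquiv.ext
    intro v
    apply Multiplicative.toAdd.injective
    funext i
    show ρ 1 *ᵥ (Multiplicative.toAdd v) i = (Multiplicative.toAdd v) i
    rw [map_one, Matrix.one_mulVec]
  map_mul' g h := by
    apply MulEquiv.ext
    intro v
    apply Multiplicative.toAdd.injective
    funext i
    show ρ (g * h) *ᵥ (Multiplicative.toAdd v) i = ρ g *ᵥ (ρ h *ᵥ (Multiplicative.toAdd v) i)
    rw [map_mul, Matrix.mulVec_mulVec]

theorem vec_pow_five {k : ℕ} (v : Multiplicative (Fin k → Fin 12 → ZMod 5)) : v ^ 5 = 1 := by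
  apply Multiplicative.toAdd.injective
  rw [toAdd_pow, toAdd_one]
  funext i j
  rw [Pi.smul_apply, Pi.smul_apply, nsmul_eq_mul]
  rw [ZMod.natCast_self, zero_mul, Pi.zero_apply, Pi.zero_apply]

theorem unbounded {F : Type*} [Field F] [Fintype F] (hF : Fintype.card F = 16) (N : ℕ) :
    ∃ (H : Type) (_ : Group H) (_ : Finite H), N < Nat.card H ∧
      ((∀ p : ℕ, p.Prime → (p ∣ Nat.card (Cfsg.PSU 3 F 4) ↔ p ∣ Nat.card H)) ∧
      (∀ p q : ℕ, p.Prime → q.Prime → p ≠ q →
        ((∃ g : (Cfsg.PSU 3 F 4), orderOf g = p * q) ↔ (∃ g : H, orderOf g = p * q)))) := by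
  classical
  obtain ⟨φ⟩ := exists_ringEquiv F hF
  haveI := finite_S
  haveI : Fact (Nat.Prime 5) := ⟨Nat.prime_five⟩
  haveI : Fact (Nat.Prime 13) := ⟨by norm_num⟩
  let e : S ≃* Cfsg.PSU 3 F 4 := MulEquiv.ofBijective (toPSU φ) (toPSU_bijective φ hF)
  have hcard := card_PSU hF
  haveI : Finite (Cfsg.PSU 3 F 4) := Nat.finite_of_card_ne_zero (by rw [hcard]; norm_num)
  have hcS : Nat.card S = 62400 := (Nat.card_congr e.toEquiv).trans hcard
  letI : Group S :=
    { (inferInstance : Monoid S) with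
      inv := fun x => e.symm (e x)⁻¹
      inv_mul_cancel := fun x => e.injective (by
        show e (e.symm (e x)⁻¹ * x) = e 1
        rw [map_mul, e.apply_symm_apply, inv_mul_cancel, map_one]) }
  let ρ : S →* Matrix (Fin 12) (Fin 12) (ZMod 5) := (MonoidHom.fst _ _).comp S.subtype
  obtain ⟨h13, h15, h10⟩ := orders φ
  have hord : ∀ x : S, orderOf (toPSU φ x) = orderOf x := fun x =>
    orderOf_injective (toPSU φ) (toPSU_bijective φ hF).1 x
  have hfix : ∀ (g : S) (q : ℕ), q.Prime → q ≠ 5 → orderOf g = q →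
      ∀ v : Multiplicative (Fin N → Fin 12 → ZMod 5), v ≠ 1 → act ρ N g v = v →
        ∃ x : S, orderOf x = 5 * q := by
    intro g q hq hq5 hg v hv hfx
    have hd : q ∣ 2 ^ 6 * 3 * 5 ^ 2 * 13 := by
      rw [show 2 ^ 6 * 3 * 5 ^ 2 * 13 = 62400 by norm_num, ← hcS, ← hg]
      exact orderOf_dvd_natCard g
    have hp : ∀ r : ℕ, r.Prime → q ∣ r → q = r := fun r hr h => (Nat.prime_dvd_prime_iff_eq hq hr).1 h
    have hq' : q = 2 ∨ q = 3 ∨ q = 13 := by
      rcases hq.dvd_mul.1 hd with h | h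
      · rcases hq.dvd_mul.1 h with h | h
        · rcases hq.dvd_mul.1 h with h | h
          · exact Or.inl (hp 2 Nat.prime_two (hq.dvd_of_dvd_pow h))
          · exact Or.inr (Or.inl (hp 3 Nat.prime_three h))
        · exact absurd (hp 5 Nat.prime_five (hq.dvd_of_dvd_pow h)) hq5
      · exact Or.inr (Or.inr (hp 13 (by norm_num) h))
    rcases hq' with rfl | rfl | rfl
    · exact ⟨a10, by rw [← hord, h10]⟩
    · exact ⟨a15, by rw [← hord, h15]⟩
    · refine absurd ?_ hv
      apply Multiplicative.toAdd.injective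
      funext i
      have hu : ρ g *ᵥ (Multiplicative.toAdd v) i = (Multiplicative.toAdd v) i :=
        congrFun (congrArg Multiplicative.toAdd hfx) i
      generalize (Multiplicative.toAdd v) i = w at hu ⊢
      obtain ⟨x, n, hx⟩ := CfsgLib.FpfExt.exists_conj_pow hg ((hord a13).symm.trans h13)
        (by rw [hcS]; norm_num)
      have hpow : ∀ m : ℕ, ρ g ^ m *ᵥ w = w := by
        intro m
        induction m with
        | zero => rw [pow_zero, Matrix.one_mulVec]
        | succ m ih => rw [pow_succ, ← Matrix.mulVec_mulVec, hu, ih]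
      have hf : (gen 0).1 *ᵥ (ρ x *ᵥ w) = ρ x *ᵥ w := by
        rw [show (gen 0).1 = ρ a13 from rfl, hx, Matrix.mulVec_mulVec, ← map_mul, inv_mul_cancel_right,
          map_mul, map_pow, ← Matrix.mulVec_mulVec, hpow]
      have h0 : ρ x *ᵥ w = 0 := by
        calc ρ x *ᵥ w = (dec12 fpfInv * ((gen 0).1 - 1)) *ᵥ (ρ x *ᵥ w) := by
              rw [fpf_ok, Matrix.one_mulVec]
          _ = 0 := by
            rw [← Matrix.mulVec_mulVec, Matrix.sub_mulVec, Matrix.one_mulVec, hf, sub_self,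
              Matrix.mulVec_zero]
      calc w = ρ x⁻¹ *ᵥ (ρ x *ᵥ w) := by
            rw [Matrix.mulVec_mulVec, ← map_mul, inv_mul_cancel, map_one, Matrix.one_mulVec]
        _ = 0 := by rw [h0, Matrix.mulVec_zero]
  have hV : ∀ v : Multiplicative (Fin N → Fin 12 → ZMod 5), v ^ 5 = 1 := vec_pow_five
  refine ⟨Multiplicative (Fin N → Fin 12 → ZMod 5) ⋊[act ρ N] S, inferInstance,
    Finite.of_equiv _ SemidirectProduct.equivProd.symm, ?_, ?_, ?_⟩
  · rw [SemidirectProduct.card, hcS, Nat.card_congr Multiplicative.toAdd, Nat.card_fun, Nat.card_fun,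
      Nat.card_zmod, Nat.card_fin, Nat.card_fin]
    calc N < (5 ^ 12) ^ N := Nat.lt_pow_self (by norm_num)
      _ ≤ (5 ^ 12) ^ N * 62400 := Nat.le_mul_of_pos_right _ (by norm_num)
  · intro p hp
    rw [hcard, ← hcS]
    exact CfsgLib.FpfExt.prime_dvd_iff (act ρ N) hV (by rw [hcS]; norm_num) p hp
  · intro p q hp hq hpq
    rw [← CfsgLib.FpfExt.edge_iff (act ρ N) hV hfix hp hq hpq]
    exact ⟨fun ⟨g, hg⟩ => ⟨e.symm g, by rw [MulEquiv.orderOf_eq, hg]⟩,
      fun ⟨g, hg⟩ => ⟨e g, by rw [MulEquiv.orderOf_eq, hg]⟩⟩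

end CfsgLib.U34
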